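import Cfsg.Agent.Spor.J4T.Z.D0

set_option autoImplicit false
set_option maxRecDepth 100000000
set_option Elab.async false

namespace Cfsg.Agent.Spor.J4T.Z

theorem gr2 : sub (ones 1771) (U.growI W1 [0, 1, 1, 0, 1, 1, 0, 1, 1, 0, 1, 1, 0, 1, 1, 0, 1, 1, 0, 1, 1, 0, 1, 1, 0, 1, 1, 0, 1, 1, 0, 1, 1, 0, 1, 1, 0, 1, 1] (Nat.shiftLeft 1 0)) = true := by decide +kernel

theorem cl4 : band (U.closedW W1 (ones 1771)) (sub (Nat.shiftLeft 1 0) (ones 1771)) = true := by decide +kernel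

theorem sz5 : sizeOk 11 (ones 1771) 1771 = true := by decide +kernel

theorem fx8 : U.closedW W7 (Nat.shiftLeft 1 0) = true := by decide +kernel

theorem gr10 : sub M9 (U.growI W7 [0, 1, 2, 1, 0, 0, 1, 2, 1, 0, 0, 1, 2, 1] (Nat.shiftLeft 1 51)) = true := by decide +kernel

theorem sd12 : U.sends [1, 3, 3, 1, 3, 3, 1, 3, 1, 3, 1] 0 51 = true := by decide +kernel

theorem gr13 : sub (ones 1771) (U.growI ([1, 3, 3, 1, 3, 3, 1, 3, 1, 3, 1] :: W7) [0, 1, 2, 3, 2, 1, 0, 1, 2, 3, 2, 1, 0, 1, 2, 3, 2, 1, 0] (Nat.shiftLeft 1 0)) = true := by decide +kernel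

theorem gr16 : sub M15 (U.growI W7 [0, 1, 2, 1, 0, 0, 1, 2, 1, 0, 0, 1, 2, 1, 0, 0, 2] (Nat.shiftLeft 1 18)) = true := by decide +kernel

theorem sd18 : U.sends [1, 3, 1, 3, 1] 0 18 = true := by decide +kernel

theorem gr19 : sub (ones 1771) (U.growI ([1, 3, 1, 3, 1] :: W7) [0, 1, 2, 3, 2, 1, 0, 0, 1, 2, 3, 2, 1, 0, 0, 1, 2, 3] (Nat.shiftLeft 1 0)) = true := by decide +kernel

theorem gr22 : sub M21 (U.growI W7 [0, 1, 2, 1, 0, 0, 1, 2, 1, 0, 0, 1, 2, 1, 0, 0, 1, 2, 1] (Nat.shiftLeft 1 1)) = true := by decide +kernel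

theorem sd24 : U.sends [1] 0 1 = true := by decide +kernel

theorem gr25 : sub (ones 1771) (U.growI ([1] :: W7) [0, 1, 2, 3, 2, 1, 0, 1, 2, 3, 2, 1, 0, 1, 2, 3, 2, 1] (Nat.shiftLeft 1 0)) = true := by decide +kernel

theorem rel27 : U.rel 11 [5] 0 11 = true := by decide +kernel

theorem gr30 : sub M29 (U.growI W28 [0, 1, 1, 0, 0, 1, 1, 0, 0, 1, 1, 0, 0, 1, 1, 0, 0, 1, 1, 0] (Nat.shiftLeft 1 0)) = true := by decide +kernel

theorem sd32 : U.sends [] 0 0 = true := by decide +kernel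

theorem gr34 : sub M33 (U.growI W28 [0, 1, 1, 0, 0, 1, 1, 0, 0, 1, 1, 0, 0, 1, 1, 0, 0, 1] (Nat.shiftLeft 1 9)) = true := by decide +kernel

theorem sd36 : U.sends [1, 3, 1, 4] 0 9 = true := by decide +kernel

theorem sd37 : U.sends [1, 4, 1, 4, 1, 3, 1, 4, 1, 4, 1, 4, 1, 3, 1, 3, 1, 5, 2, 4, 2, 4, 2, 3, 2, 3, 2, 3, 2, 4, 2, 3, 2, 3, 2, 3, 1, 4, 1, 3, 1, 4, 1, 4, 1, 3, 1, 4, 1, 4, 1, 3, 1, 3, 1, 3, 1, 4, 1, 3, 1, 4, 1, 3, 1, 4, 1, 4, 1, 4, 1, 3, 1, 3, 1, 4, 1, 4, 1, 4] 0 1117 = true := by decide +kernel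

theorem gr40 : sub M39 (U.growI W28 [0, 1, 1, 0, 0, 1, 1, 0, 0, 1, 1, 0] (Nat.shiftLeft 1 73)) = true := by decide +kernel

theorem sd42 : U.sends [1, 4, 1, 3, 1, 3, 1, 4, 1, 4] 0 73 = true := by decide +kernel

theorem sd43 : U.sends [3, 1, 3, 1, 4, 1, 4, 1, 3, 1, 5, 2, 4, 2, 3, 2, 3, 2, 4, 2, 4, 1, 4, 1, 4, 1, 4, 1, 4, 1, 3, 1, 4, 1, 4, 1, 3, 1, 3, 1, 3, 1, 3, 1, 3, 1, 4, 1, 3, 1, 3, 1, 4, 1, 4, 1, 4, 1, 3, 1, 4, 1, 4, 1, 3, 1, 3, 1, 3, 1, 4, 1, 4, 1] 0 752 = true := by decide +kernel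

theorem gr46 : sub M45 (U.growI W28 [1, 0, 0, 0, 1, 0] (Nat.shiftLeft 1 131)) = true := by decide +kernel

theorem sd48 : U.sends [1, 4, 1, 3, 1, 3, 1, 3, 1, 3] 0 131 = true := by decide +kernel

theorem gr51 : sub M50 (U.growI W49 [0, 1, 1, 0, 0, 1, 1, 0, 0, 1, 1, 0, 0, 1, 1, 0, 0, 1, 1, 0, 0] (Nat.shiftLeft 1 0)) = true := by decide +kernel

theorem sd53 : U.sends [] 0 0 = true := by decide +kernel

theorem gr55 : sub M54 (U.growI W49 [0, 1, 1, 0, 0, 1, 1, 0, 0, 1, 1, 0, 0, 1, 1, 0] (Nat.shiftLeft 1 4)) = true := by decide +kernel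

theorem sd57 : U.sends [1, 3] 0 4 = true := by decide +kernel

theorem gr59 : sub M58 (U.growI W49 [0, 1, 1, 0, 0, 1, 1, 0, 0, 1, 1, 0] (Nat.shiftLeft 1 36)) = true := by decide +kernel

theorem sd61 : U.sends [1, 4, 1, 4, 1, 4, 1, 3, 1] 0 36 = true := by decide +kernel

theorem sd62 : U.sends [4, 1, 3, 1, 3, 1, 5, 2, 4, 2, 4, 2, 3, 5, 1, 3, 1, 3, 1, 3, 1, 4, 1, 4, 1, 4, 1, 3, 1, 4, 1, 3, 1, 4, 1, 3, 1, 4, 1, 3, 1, 3, 1, 3, 1, 4, 1, 4, 1, 3, 1, 3, 1, 3, 1, 4, 1, 3, 1, 4, 1, 3, 1, 4, 1, 4, 1, 3, 1] 0 1322 = true := by decide +kernel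

theorem sd65 : U.sends [1, 4, 1, 4, 1, 4, 1, 3, 1, 3, 1, 3, 1] 0 199 = true := by decide +kernel

theorem gr68 : sub M67 (U.growI W66 [0, 1, 1, 0, 0, 1, 1, 0, 0, 1, 1, 0, 0, 1, 1, 0, 0, 1] (Nat.shiftLeft 1 0)) = true := by decide +kernel

theorem sd70 : U.sends [] 0 0 = true := by decide +kernel

theorem gr72 : sub M71 (U.growI W66 [0, 1, 1, 0, 0, 1, 1, 0, 0, 1, 1, 0, 0, 1, 1, 0, 0] (Nat.shiftLeft 1 4)) = true := by decide +kernel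

theorem sd74 : U.sends [1, 3] 0 4 = true := by decide +kernel

theorem gr76 : sub M75 (U.growI W66 [0, 1, 1, 0, 0, 1, 1, 0, 0, 1, 1, 0, 0, 1] (Nat.shiftLeft 1 8)) = true := by decide +kernel

theorem sd78 : U.sends [1, 4, 1, 3] 0 8 = true := by decide +kernel

theorem gr80 : sub M79 (U.growI W66 [0, 1, 1, 0, 0, 1, 1, 0, 0, 1, 1, 0, 0, 1, 1] (Nat.shiftLeft 1 9)) = true := by decide +kernel

theorem sd82 : U.sends [1, 3, 1, 4] 0 9 = true := by decide +kernel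

theorem gr84 : sub M83 (U.growI W66 [0, 1, 1, 0, 0, 1, 1, 0, 0, 1, 1] (Nat.shiftLeft 1 38)) = true := by decide +kernel

theorem sd86 : U.sends [1, 4, 1, 4, 1, 3, 1, 3] 0 38 = true := by decide +kernel

theorem gr88 : sub M87 (U.growI W66 [0, 1, 0] (Nat.shiftLeft 1 299)) = true := by decide +kernel

theorem sd90 : U.sends [1, 3, 1, 4, 1, 3, 1, 3, 1, 3, 1, 4, 1] 0 299 = true := by decide +kernel

theorem gr92 : sub M91 (U.growI W66 [1, 1] (Nat.shiftLeft 1 199)) = true := by decide +kernel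

theorem sd94 : U.sends [1, 4, 1, 4, 1, 4, 1, 3, 1, 3, 1, 3, 1] 0 199 = true := by decide +kernel

theorem sd95 : U.sends [1, 4, 1, 3, 1, 3, 1, 3, 1, 4, 1, 4, 1, 3, 1, 5, 2, 4, 2, 3, 2, 3, 2, 4, 2, 4, 2, 4, 2, 3, 2, 3, 1, 3, 1, 4, 1, 4, 1, 4, 1, 4, 1, 3, 1, 3, 1, 3, 1, 4, 1, 4, 1, 4, 1, 4, 1, 3, 1, 4, 1, 3, 1, 4, 1, 4, 1, 3, 1, 3, 1, 3, 1, 4, 1, 3, 1, 3, 1, 3, 1] 0 1665 = true := by decide +kernel

theorem gr98 : sub M97 (U.growI W66 [0, 1, 1, 0, 0, 1] (Nat.shiftLeft 1 317)) = true := by decide +kernel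

theorem sd100 : U.sends [1, 4, 1, 4, 1, 4, 1, 4, 1, 4, 1, 3, 1, 3, 1, 4] 0 317 = true := by decide +kernel

theorem sd101 : U.sends [4, 1, 4, 1, 3, 1, 3, 1, 4, 1, 4, 1, 4, 1, 3, 1, 4, 1, 5, 2, 3, 2, 4, 2, 3, 2, 3, 2, 3, 2, 4, 2, 4, 2, 3, 2, 3, 1, 4, 1, 4, 1, 3, 1, 4, 1, 4, 1, 4, 1, 4, 1, 4, 1, 3, 1, 3, 1, 4, 1, 3, 1, 4, 1, 3, 1, 4, 1, 3, 1, 4, 1, 3, 1, 4, 1, 4, 1, 3, 1, 3, 1, 3, 1, 4, 1, 3, 1] 0 1144 = true := by decide +kernel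

theorem gr105 : sub M104 (U.growI W103 [0, 1, 1, 0, 0, 1, 1, 0, 0, 1, 1, 0, 0, 1, 1, 0, 0, 1, 1, 0] (Nat.shiftLeft 1 0)) = true := by decide +kernel

theorem sd107 : U.sends [] 0 0 = true := by decide +kernel

theorem gr109 : sub M108 (U.growI W103 [0, 1, 1, 0, 0, 1, 1, 0, 0, 1, 1, 0, 0, 1, 1, 0, 0, 1] (Nat.shiftLeft 1 2)) = true := by decide +kernel

theorem sd111 : U.sends [1, 4] 0 2 = true := by decide +kernel

theorem gr113 : sub M112 (U.growI W103 [0, 1, 1, 0, 0, 1, 1, 0, 0, 1, 1, 0, 0, 1, 1, 0, 0] (Nat.shiftLeft 1 6)) = true := by decide +kernel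

theorem sd115 : U.sends [1, 3, 1] 0 6 = true := by decide +kernel

theorem gr117 : sub M116 (U.growI W103 [0, 1, 1, 0, 0, 1, 1, 0, 0, 1] (Nat.shiftLeft 1 27)) = true := by decide +kernel

theorem sd119 : U.sends [1, 4, 1, 4, 1, 4, 1, 3] 0 27 = true := by decide +kernel

theorem gr121 : sub M120 (U.growI W103 [0, 1, 1, 0, 0, 1, 1, 0, 0] (Nat.shiftLeft 1 87)) = true := by decide +kernel

theorem sd123 : U.sends [1, 4, 1, 4, 1, 4, 1, 3, 1, 4, 1, 4] 0 87 = true := by decide +kernel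

theorem gr125 : sub M124 (U.growI W103 [0, 1, 1, 0, 0, 1, 1, 0, 0, 1, 1] (Nat.shiftLeft 1 131)) = true := by decide +kernel

theorem sd127 : U.sends [1, 4, 1, 3, 1, 3, 1, 3, 1, 3] 0 131 = true := by decide +kernel

theorem sd129 : U.sends [1, 4, 1, 4, 1, 4, 1, 3, 1, 3, 1, 3] 0 153 = true := by decide +kernel

theorem sd130 : U.sends [4, 1, 3, 1, 3, 1, 3, 1, 4, 1, 5, 2, 3, 2, 4, 2, 4, 2, 4, 2, 3, 3, 1, 3, 1, 4, 1, 3, 1, 3, 1, 4, 1, 4, 1, 3, 1, 3, 1, 4, 1, 4, 1, 4, 1, 4, 1, 3, 1, 4, 1, 3, 1, 4, 1, 3, 1, 3, 1, 4, 1, 3, 1, 4, 1, 4, 1, 3, 1, 4, 1, 3, 1] 0 685 = true := by decide +kernel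

theorem gr134 : sub M133 (U.growI W132 [0, 1, 1, 0, 0, 1, 1, 0, 0, 1, 1, 0, 0, 1, 1, 0, 0, 1, 1, 0, 0] (Nat.shiftLeft 1 0)) = true := by decide +kernel

theorem sd136 : U.sends [] 0 0 = true := by decide +kernel

theorem gr138 : sub M137 (U.growI W132 [0, 1, 1, 0, 0, 1, 1, 0, 0, 1, 1, 0, 0, 1] (Nat.shiftLeft 1 2)) = true := by decide +kernel

theorem sd140 : U.sends [1, 4] 0 2 = true := by decide +kernel

theorem gr142 : sub M141 (U.growI W132 [0, 1, 1, 0, 0, 1, 1, 0, 0, 1, 0] (Nat.shiftLeft 1 9)) = true := by decide +kernel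

theorem sd144 : U.sends [1, 3, 1, 4] 0 9 = true := by decide +kernel

theorem gr146 : sub M145 (U.growI W132 [0, 1, 1, 0, 0, 1, 1, 0, 0, 1, 1, 0, 0, 1, 1] (Nat.shiftLeft 1 27)) = true := by decide +kernel

theorem sd148 : U.sends [1, 4, 1, 4, 1, 4, 1, 3] 0 27 = true := by decide +kernel

theorem gr150 : sub M149 (U.growI W132 [0, 1, 1, 0, 0, 1, 0, 0, 1, 0] (Nat.shiftLeft 1 73)) = true := by decide +kernel

theorem sd152 : U.sends [1, 4, 1, 3, 1, 3, 1, 4, 1, 4] 0 73 = true := by decide +kernel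

theorem gr154 : sub M153 (U.growI W132 [0, 1, 1, 0, 0, 1, 1, 0, 0, 1, 1, 0] (Nat.shiftLeft 1 87)) = true := by decide +kernel

theorem sd156 : U.sends [1, 4, 1, 4, 1, 4, 1, 3, 1, 4, 1, 4] 0 87 = true := by decide +kernel

theorem gr158 : sub M157 (U.growI W132 [0, 1, 1, 0] (Nat.shiftLeft 1 131)) = true := by decide +kernel

theorem sd160 : U.sends [1, 4, 1, 3, 1, 3, 1, 3, 1, 3] 0 131 = true := by decide +kernel

theorem sd162 : U.sends [1, 4, 1, 3, 1, 4, 1, 3, 1, 4, 1, 4, 1, 4] 0 213 = true := by decide +kernel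

theorem gr165 : sub M164 (U.growI W163 [0, 1, 1, 0, 0, 1, 1, 0, 0, 1, 1, 0, 0, 1, 1, 0, 0, 1, 1] (Nat.shiftLeft 1 0)) = true := by decide +kernel

theorem sd167 : U.sends [] 0 0 = true := by decide +kernel

theorem gr169 : sub M168 (U.growI W163 [0, 1, 1, 0, 0, 1, 1, 0, 0, 1, 1, 0, 0, 1, 1, 0, 0] (Nat.shiftLeft 1 2)) = true := by decide +kernel

theorem sd171 : U.sends [1, 4] 0 2 = true := by decide +kernel

theorem gr173 : sub M172 (U.growI W163 [0, 1, 1, 0, 0, 1, 1, 0, 0, 1, 1, 0, 0, 1, 1, 0] (Nat.shiftLeft 1 3)) = true := by decide +kernel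

theorem sd175 : U.sends [1, 4, 1] 0 3 = true := by decide +kernel

theorem gr177 : sub M176 (U.growI W163 [0, 1, 1, 0, 0, 1, 1, 0, 0, 1, 1, 0, 0, 1, 1, 0, 0, 1, 1, 0] (Nat.shiftLeft 1 6)) = true := by decide +kernel

theorem sd179 : U.sends [1, 3, 1] 0 6 = true := by decide +kernel

end Cfsg.Agent.Spor.J4T.Z
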