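import Cfsg.Agent.Spor.Prim
import Cfsg.Agent.Spor.J4T.Main
import Cfsg.Agent.Spor.J4T.Z.C0
import Cfsg.Agent.Spor.PX15
import Cfsg.Agent.Spor.J4N.ZB.Main

set_option autoImplicit false
set_option maxRecDepth 100000000
set_option Elab.async false

namespace Cfsg.Agent.Spor.J4T.Z

theorem hU : U.Ok 11 := U.ok_of 11 (show AllP (fun n => Net.okb 11 n = true) [n0, n1, n2] from AllP.cons ok0 (AllP.cons ok1 (AllP.cons ok2 (AllP.nil))))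

theorem hfP : ∀ j < 3, U.fP [1, 3, 5] j = fP j := by
  intro j hj
  interval_cases j <;> rfl
theorem eG : gsub 3 fP = U.lsub W1 := (gsub_congr hfP).symm.trans (lsub_eq_gsub U [1, 3, 5])
theorem hom : ∃ φ : J4N.P →* Equiv.Perm ℕ, ∀ j < 3, φ (J4N.p j) = fP j :=
  J4N.bound.exists_hom (by norm_num) J4N.pres pres J4N.lbP
noncomputable def φ : J4N.P →* Equiv.Perm ℕ := hom.choose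
theorem hφ : ∀ j < 3, φ (J4N.p j) = fP j := hom.choose_spec
theorem link : U.Link φ (atm 3 J4N.p) (2 * 3) :=
  Tab.Link.of (fun j hj => (hφ j hj).trans (by interval_cases j <;> rfl)) (by decide +kernel)
theorem eR : φ.range = U.lsub W1 := (range_eq_gsub hφ (gsub_lift 3 _)).trans eG
theorem reach3 : Reach (U.lsub W1) 0 (ones 1771) := (Reach.grow hU (Reach.base _ 0) gr2)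
theorem orb6 : (orbS (U.lsub W1) 0).ncard = 1771 := reach3.ncard hU cl4 sz5
theorem orb6e : orbS (U.lsub W1) 0 = {c | Nat.testBit (ones 1771) c = true} := reach3.orb hU cl4
theorem act : CosetAct (wsub 3 J4N.p J4N.ZB.HW) φ 1771 :=
  CosetAct.of_count (link.fix hU (W := W7) (by decide +kernel) (hU.fixes fx8)) (eR ▸ orb6e) J4N.ZB.cardH J4N.cardP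
theorem reach11 : Reach (U.lsub W7) 51 M9 := (Reach.grow hU (Reach.base _ 51) gr10)
theorem reach14 : Reach (U.lsub ([1, 3, 3, 1, 3, 3, 1, 3, 1, 3, 1] :: W7)) 0 (ones 1771) := (Reach.grow hU (Reach.base _ 0) gr13)
theorem reach17 : Reach (U.lsub W7) 18 M15 := (Reach.grow hU (Reach.base _ 18) gr16)
theorem reach20 : Reach (U.lsub ([1, 3, 1, 3, 1] :: W7)) 0 (ones 1771) := (Reach.grow hU (Reach.base _ 0) gr19)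
theorem reach23 : Reach (U.lsub W7) 1 M21 := (Reach.grow hU (Reach.base _ 1) gr22)
theorem reach26 : Reach (U.lsub ([1] :: W7)) 0 (ones 1771) := (Reach.grow hU (Reach.base _ 0) gr25)
noncomputable def X : List SubO := [([1, 3, 3, 1, 3, 3, 1, 3, 1, 3, 1], 51, M9), ([1, 3, 1, 3, 1], 18, M15), ([1], 1, M21)]
theorem hX : AllP (SubOk U W7 W1) X :=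
  show AllP (SubOk U W7 W1) [([1, 3, 3, 1, 3, 3, 1, 3, 1, 3, 1], 51, M9), ([1, 3, 1, 3, 1], 18, M15), ([1], 1, M21)] from AllP.cons ⟨U.mem_letters (by decide), (hU.sends sd12), reach11⟩ (AllP.cons ⟨U.mem_letters (by decide), (hU.sends sd18), reach17⟩ (AllP.cons ⟨U.mem_letters (by decide), (hU.sends sd24), reach23⟩ (AllP.nil)))
theorem hXc : subCov 1771 X = true := by decide +kernel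
theorem hY : AllP (fun x : SubO => Reach (U.lsub (x.1 :: W7)) 0 (ones 1771)) X :=
  show AllP (fun x : SubO => Reach (U.lsub (x.1 :: W7)) 0 (ones 1771)) [([1, 3, 3, 1, 3, 3, 1, 3, 1, 3, 1], 51, M9), ([1, 3, 1, 3, 1], 18, M15), ([1], 1, M21)] from AllP.cons reach14 (AllP.cons reach20 (AllP.cons reach26 (AllP.nil)))
theorem coatom : IsCoatom (wsub 3 J4N.p J4N.ZB.HW) :=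
  act.coatom (by norm_num) ((link.lsub_le (by decide +kernel)).symm.trans (congrArg _ (by decide +kernel))) eR hX hXc hY
theorem hz : φ (ev (atm 3 J4N.p) [4]) = 1 := (link.evL (by decide)).trans (hU.one rel27)
theorem reach31 : Reach (U.lsub W28) 0 M29 := (Reach.grow hU (Reach.base _ 0) gr30)
theorem reach35 : Reach (U.lsub W28) 9 M33 := (Reach.grow hU (Reach.base _ 9) gr34)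
theorem bad38 : ¬ IsConj (ev (atm 3 J4N.p) [4]) (ev (atm 3 J4N.p) [3, 0, 3, 0, 3, 0, 2, 0, 2, 0, 3, 0, 3, 0, 3, 0, 2, 0, 3, 0, 2, 0, 3, 0, 2, 0, 2, 0, 2, 0, 3, 0, 3, 0, 2, 0, 3, 0, 3, 0, 2, 0, 3, 0, 2, 1, 2, 1, 2, 1, 3, 1, 2, 1, 2, 1, 2, 1, 3, 1, 3, 1, 4, 0, 2, 0, 2, 0, 3, 0, 3, 0, 3, 0, 2, 0, 3, 0, 3, 0]) :=
  link.bad hU hz (by decide +kernel) sd37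
theorem reach41 : Reach (U.lsub W28) 73 M39 := (Reach.grow hU (Reach.base _ 73) gr40)
theorem bad44 : ¬ IsConj (ev (atm 3 J4N.p) [4]) (ev (atm 3 J4N.p) [0, 3, 0, 3, 0, 2, 0, 2, 0, 2, 0, 3, 0, 3, 0, 2, 0, 3, 0, 3, 0, 3, 0, 2, 0, 2, 0, 3, 0, 2, 0, 2, 0, 2, 0, 2, 0, 2, 0, 3, 0, 3, 0, 2, 0, 3, 0, 3, 0, 3, 0, 3, 0, 3, 1, 3, 1, 2, 1, 2, 1, 3, 1, 4, 0, 2, 0, 3, 0, 3, 0, 2, 0, 2]) :=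
  link.bad hU hz (by decide +kernel) sd43
theorem reach47 : Reach (U.lsub W28) 131 M45 := (Reach.grow hU (Reach.base _ 131) gr46)
theorem cls1 (hH : ∀ x ∈ wsub 3 J4N.p J4N.ZB.HW, x * ev (atm 3 J4N.p) [4] = ev (atm 3 J4N.p) [4] * x)
    {Q : J4N.P → Prop}
    (h0 : ev (atm 3 J4N.p) [] * ev (atm 3 J4N.p) [4] * (ev (atm 3 J4N.p) [])⁻¹ ∉ wsub 3 J4N.p [[3, 0, 2, 0, 3, 0, 2, 0, 2, 0, 2, 0, 3, 0, 2, 0, 2, 0, 2, 0, 2, 0, 2, 0, 3, 0, 3, 0, 3, 0, 3, 0, 2, 0, 2, 0, 2, 0, 3, 0, 3, 0, 2, 0, 2, 0, 2, 0, 3, 0, 2, 0, 2, 1, 2, 1, 3, 1, 3, 1, 3, 1, 3, 1, 2, 1, 4, 0, 3, 0, 2, 0, 2, 0, 2, 0, 2, 0, 3, 0], [3, 0, 2, 0, 3, 0, 2, 0, 3, 0, 3, 0, 3, 0, 2, 0, 3, 0, 2, 0, 3, 0, 3, 0, 3, 0, 2, 0, 2, 0, 3, 0,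 2, 0, 3, 0, 2, 0, 3, 3, 1, 2, 1, 3, 1, 3, 1, 3, 1, 3, 1, 4, 0, 2, 0, 2, 0, 2, 0, 2, 0, 3, 0, 2, 0, 2, 0, 2, 0]])
    (h1 : Q (ev (atm 3 J4N.p) [3, 0, 2, 0]))
    (h2 : Q (ev (atm 3 J4N.p) [3, 0, 3, 0, 2, 0, 2, 0, 3, 0]))
    (h3 : Q (ev (atm 3 J4N.p) [2, 0, 2, 0, 2, 0, 2, 0, 3, 0])) :
    ∀ y ∈ wsub 3 J4N.p [[3, 0, 2, 0, 3, 0, 2, 0, 2, 0, 2, 0, 3, 0, 2, 0, 2, 0, 2, 0, 2, 0, 2, 0, 3, 0, 3, 0, 3, 0, 3, 0, 2, 0, 2, 0, 2, 0, 3, 0, 3, 0, 2, 0, 2, 0, 2, 0, 3, 0, 2, 0, 2, 1, 2, 1, 3, 1, 3, 1, 3, 1, 3, 1, 2, 1, 4, 0, 3, 0, 2, 0, 2, 0, 2, 0, 2, 0, 3, 0], [3, 0, 2, 0, 3, 0, 2, 0, 3, 0, 3, 0, 3, 0, 2, 0, 3, 0, 2, 0, 3, 0, 3, 0, 3, 0, 2, 0, 2, 0, 3, 0, 2, 0, 3, 0, 2, 0, 3, 3, 1, 2, 1, 3, 1,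 3, 1, 3, 1, 3, 1, 4, 0, 2, 0, 2, 0, 2, 0, 2, 0, 3, 0, 2, 0, 2, 0, 2, 0]], IsConj (ev (atm 3 J4N.p) [4]) y → ∃ s ∈ wsub 3 J4N.p [[3, 0, 2, 0, 3, 0, 2, 0, 2, 0, 2, 0, 3, 0, 2, 0, 2, 0, 2, 0, 2, 0, 2, 0, 3, 0, 3, 0, 3, 0, 3, 0, 2, 0, 2, 0, 2, 0, 3, 0, 3, 0, 2, 0, 2, 0, 2, 0, 3, 0, 2, 0, 2, 1, 2, 1, 3, 1, 3, 1, 3, 1, 3, 1, 2, 1, 4, 0, 3, 0, 2, 0, 2, 0, 2, 0, 2, 0, 3, 0], [3, 0, 2, 0, 3, 0, 2, 0, 3, 0, 3, 0, 3, 0, 2, 0, 3, 0, 2, 0, 3, 0, 3, 0, 3, 0, 2, 0, 2, 0, 3, 0, 2, 0, 3, 0, 2, 0, 3, 3, 1, 2, 1, 3, 1, 3, 1, 3, 1, 3, 1, 4, 0, 2, 0, 2, 0, 2, 0, 2, 0, 3, 0, 2, 0, 2, 0, 2, 0]], ∃ h, Q h ∧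
      y = s * h * ev (atm 3 J4N.p) [4] * (s * h)⁻¹ :=
  link.classes act (W := W28) (by decide +kernel) hH (X := [([], 0, M29), ([3, 0, 2, 0], 9, M33), ([3, 0, 3, 0, 2, 0, 2, 0, 3, 0], 73, M39), ([2, 0, 2, 0, 2, 0, 2, 0, 3, 0], 131, M45)])
    (AllP.cons ⟨by decide, (hU.sends sd32), reach31, Or.inr h0⟩ (AllP.cons ⟨by decide, (hU.sends sd36), reach35, Or.inl h1⟩ (AllP.cons ⟨by decide, (hU.sends sd42), reach41, Or.inl h2⟩ (AllP.cons ⟨by decide, (hU.sends sd48), reach47, Or.inl h3⟩ (AllP.nil))))) (by decide +kernel)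
theorem reach52 : Reach (U.lsub W49) 0 M50 := (Reach.grow hU (Reach.base _ 0) gr51)
theorem reach56 : Reach (U.lsub W49) 4 M54 := (Reach.grow hU (Reach.base _ 4) gr55)
theorem reach60 : Reach (U.lsub W49) 36 M58 := (Reach.grow hU (Reach.base _ 36) gr59)
theorem bad63 : ¬ IsConj (ev (atm 3 J4N.p) [4]) (ev (atm 3 J4N.p) [0, 2, 0, 3, 0, 3, 0, 2, 0, 3, 0, 2, 0, 3, 0, 2, 0, 2, 0, 2, 0, 3, 0, 3, 0, 2, 0, 2, 0, 2, 0, 3, 0, 2, 0, 3, 0, 2, 0, 3, 0, 2, 0, 3, 0, 3, 0, 3, 0, 2, 0, 2, 0, 2, 0, 4, 2, 1, 3, 1, 3, 1, 4, 0, 2, 0, 2, 0, 3]) :=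
  link.bad hU hz (by decide +kernel) sd62
theorem reach64 : Reach (U.lsub W49) 199 (Nat.shiftLeft 1 199) := (Reach.base _ 199)
theorem cls4 (hH : ∀ x ∈ wsub 3 J4N.p J4N.ZB.HW, x * ev (atm 3 J4N.p) [4] = ev (atm 3 J4N.p) [4] * x)
    {Q : J4N.P → Prop}
    (h0 : ev (atm 3 J4N.p) [] * ev (atm 3 J4N.p) [4] * (ev (atm 3 J4N.p) [])⁻¹ ∉ wsub 3 J4N.p [[0, 2, 0, 2, 0, 2, 0, 2, 0, 2, 0, 3, 0, 2, 0, 2, 0, 2, 0, 3, 0, 3, 0, 3, 0, 3, 0, 3, 0, 3, 0, 3, 0, 3, 0, 3, 0, 2, 0, 3, 0, 3, 0, 3, 0, 3, 0, 2, 0, 3, 0, 2, 2, 1, 3, 1, 3, 1, 2, 1, 2, 1, 2, 1, 2, 1, 3, 1, 2, 1, 4, 0, 3, 0, 2, 0, 3, 0, 3, 0, 3, 0, 3, 0, 2, 0, 2, 0, 3, 0, 2], [2, 0, 2, 0, 3, 0, 3, 0, 3, 0, 3, 0, 3, 0, 3, 0, 3, 0, 2, 0, 2, 0,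 2, 0, 3, 0, 2, 0, 3, 0, 2, 0, 3, 0, 3, 0, 3, 0, 2, 0, 3, 0, 3, 0, 3, 0, 3, 0, 3, 0, 3, 0, 3, 3, 1, 3, 1, 3, 1, 2, 1, 2, 1, 2, 1, 3, 1, 2, 1, 2, 1, 2, 1, 4, 0, 3, 0, 3, 0, 3, 0, 2, 0, 3, 0, 3, 0, 3, 0, 2, 0, 2, 0, 2]])
    (h1 : ev (atm 3 J4N.p) [2, 0] * ev (atm 3 J4N.p) [4] * (ev (atm 3 J4N.p) [2, 0])⁻¹ ∉ wsub 3 J4N.p [[0, 2, 0, 2, 0, 2, 0, 2, 0, 2, 0, 3, 0, 2, 0, 2, 0, 2, 0, 3, 0, 3, 0, 3, 0, 3, 0, 3, 0, 3, 0, 3, 0, 3, 0, 3, 0, 2, 0, 3, 0, 3, 0, 3, 0, 3, 0, 2, 0, 3, 0, 2, 2, 1, 3, 1, 3, 1, 2, 1, 2, 1, 2, 1, 2, 1, 3, 1, 2, 1, 4, 0, 3, 0, 2, 0, 3, 0, 3, 0, 3, 0, 3, 0, 2, 0, 2, 0, 3, 0, 2], [2, 0, 2, 0, 3, 0, 3, 0, 3, 0, 3, 0, 3, 0, 3, 0, 3, 0, 2, 0, 2, 0, 2, 0, 3, 0, 2, 0, 3, 0, 2,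 0, 3, 0, 3, 0, 3, 0, 2, 0, 3, 0, 3, 0, 3, 0, 3, 0, 3, 0, 3, 0, 3, 3, 1, 3, 1, 3, 1, 2, 1, 2, 1, 2, 1, 3, 1, 2, 1, 2, 1, 2, 1, 4, 0, 3, 0, 3, 0, 3, 0, 2, 0, 3, 0, 3, 0, 3, 0, 2, 0, 2, 0, 2]])
    (h2 : Q (ev (atm 3 J4N.p) [0, 2, 0, 3, 0, 3, 0, 3, 0]))
    (h3 : Q (ev (atm 3 J4N.p) [0, 2, 0, 2, 0, 2, 0, 3, 0, 3, 0, 3, 0])) :
    ∀ y ∈ wsub 3 J4N.p [[0, 2, 0, 2, 0, 2, 0, 2, 0, 2, 0, 3, 0, 2, 0, 2, 0, 2, 0, 3, 0, 3, 0, 3, 0, 3, 0, 3, 0, 3, 0, 3, 0, 3, 0, 3, 0, 2, 0, 3, 0, 3, 0, 3, 0, 3, 0, 2, 0, 3, 0, 2, 2, 1, 3, 1, 3, 1, 2, 1, 2, 1, 2, 1, 2, 1, 3, 1, 2, 1, 4, 0, 3, 0, 2, 0, 3, 0, 3, 0, 3, 0, 3, 0, 2, 0, 2, 0, 3, 0, 2], [2, 0, 2, 0, 3, 0, 3, 0, 3, 0, 3, 0, 3, 0, 3, 0, 3, 0, 2, 0, 2,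 0, 2, 0, 3, 0, 2, 0, 3, 0, 2, 0, 3, 0, 3, 0, 3, 0, 2, 0, 3, 0, 3, 0, 3, 0, 3, 0, 3, 0, 3, 0, 3, 3, 1, 3, 1, 3, 1, 2, 1, 2, 1, 2, 1, 3, 1, 2, 1, 2, 1, 2, 1, 4, 0, 3, 0, 3, 0, 3, 0, 2, 0, 3, 0, 3, 0, 3, 0, 2, 0, 2, 0, 2]], IsConj (ev (atm 3 J4N.p) [4]) y → ∃ s ∈ wsub 3 J4N.p [[0, 2, 0, 2, 0, 2, 0, 2, 0, 2, 0, 3, 0, 2, 0, 2, 0, 2, 0, 3, 0, 3, 0, 3, 0, 3, 0, 3, 0, 3, 0, 3, 0, 3, 0, 3, 0, 2, 0, 3, 0, 3, 0, 3, 0, 3, 0, 2, 0, 3, 0, 2, 2, 1, 3, 1, 3, 1, 2, 1, 2, 1, 2, 1, 2, 1, 3, 1, 2, 1, 4, 0, 3, 0, 2, 0, 3, 0, 3, 0, 3, 0, 3, 0, 2, 0, 2, 0, 3, 0, 2], [2, 0, 2, 0, 3, 0, 3, 0, 3, 0, 3, 0, 3, 0, 3, 0, 3, 0, 2, 0, 2, 0, 2, 0, 3, 0, 2, 0, 3, 0, 2, 0, 3, 0, 3, 0, 3, 0, 2, 0, 3, 0, 3, 0, 3, 0,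 3, 0, 3, 0, 3, 0, 3, 3, 1, 3, 1, 3, 1, 2, 1, 2, 1, 2, 1, 3, 1, 2, 1, 2, 1, 2, 1, 4, 0, 3, 0, 3, 0, 3, 0, 2, 0, 3, 0, 3, 0, 3, 0, 2, 0, 2, 0, 2]], ∃ h, Q h ∧
      y = s * h * ev (atm 3 J4N.p) [4] * (s * h)⁻¹ :=
  link.classes act (W := W49) (by decide +kernel) hH (X := [([], 0, M50), ([2, 0], 4, M54), ([0, 2, 0, 3, 0, 3, 0, 3, 0], 36, M58), ([0, 2, 0, 2, 0, 2, 0, 3, 0, 3, 0, 3, 0], 199, (Nat.shiftLeft 1 199))])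
    (AllP.cons ⟨by decide, (hU.sends sd53), reach52, Or.inr h0⟩ (AllP.cons ⟨by decide, (hU.sends sd57), reach56, Or.inr h1⟩ (AllP.cons ⟨by decide, (hU.sends sd61), reach60, Or.inl h2⟩ (AllP.cons ⟨by decide, (hU.sends sd65), reach64, Or.inl h3⟩ (AllP.nil))))) (by decide +kernel)
theorem reach69 : Reach (U.lsub W66) 0 M67 := (Reach.grow hU (Reach.base _ 0) gr68)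
theorem reach73 : Reach (U.lsub W66) 4 M71 := (Reach.grow hU (Reach.base _ 4) gr72)
theorem reach77 : Reach (U.lsub W66) 8 M75 := (Reach.grow hU (Reach.base _ 8) gr76)
theorem reach81 : Reach (U.lsub W66) 9 M79 := (Reach.grow hU (Reach.base _ 9) gr80)
theorem reach85 : Reach (U.lsub W66) 38 M83 := (Reach.grow hU (Reach.base _ 38) gr84)
theorem reach89 : Reach (U.lsub W66) 299 M87 := (Reach.grow hU (Reach.base _ 299) gr88)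
theorem reach93 : Reach (U.lsub W66) 199 M91 := (Reach.grow hU (Reach.base _ 199) gr92)
theorem bad96 : ¬ IsConj (ev (atm 3 J4N.p) [4]) (ev (atm 3 J4N.p) [0, 2, 0, 2, 0, 2, 0, 3, 0, 2, 0, 2, 0, 2, 0, 3, 0, 3, 0, 2, 0, 3, 0, 2, 0, 3, 0, 3, 0, 3, 0, 3, 0, 2, 0, 2, 0, 2, 0, 3, 0, 3, 0, 3, 0, 3, 0, 2, 0, 2, 1, 2, 1, 3, 1, 3, 1, 3, 1, 2, 1, 2, 1, 3, 1, 4, 0, 2, 0, 3, 0, 3, 0, 2, 0, 2, 0, 2, 0, 3, 0]) :=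
  link.bad hU hz (by decide +kernel) sd95
theorem reach99 : Reach (U.lsub W66) 317 M97 := (Reach.grow hU (Reach.base _ 317) gr98)
theorem bad102 : ¬ IsConj (ev (atm 3 J4N.p) [4]) (ev (atm 3 J4N.p) [0, 2, 0, 3, 0, 2, 0, 2, 0, 2, 0, 3, 0, 3, 0, 2, 0, 3, 0, 2, 0, 3, 0, 2, 0, 3, 0, 2, 0, 3, 0, 2, 0, 2, 0, 3, 0, 3, 0, 3, 0, 3, 0, 3, 0, 2, 0, 3, 0, 3, 0, 2, 1, 2, 1, 3, 1, 3, 1, 2, 1, 2, 1, 2, 1, 3, 1, 2, 1, 4, 0, 3, 0, 2, 0, 3, 0, 3, 0, 3, 0, 2, 0, 2, 0, 3, 0, 3]) :=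
  link.bad hU hz (by decide +kernel) sd101
theorem cls6 (hH : ∀ x ∈ wsub 3 J4N.p J4N.ZB.HW, x * ev (atm 3 J4N.p) [4] = ev (atm 3 J4N.p) [4] * x)
    {Q : J4N.P → Prop}
    (h0 : ev (atm 3 J4N.p) [] * ev (atm 3 J4N.p) [4] * (ev (atm 3 J4N.p) [])⁻¹ ∉ wsub 3 J4N.p [[0, 3, 0, 2, 0, 2, 0, 3, 0, 2, 0, 3, 0, 3, 0, 3, 0, 2, 0, 2, 0, 3, 0, 3, 0, 2, 0, 3, 0, 2, 0, 3, 0, 2, 0, 3, 0, 3, 0, 3, 0, 2, 0, 3, 0, 3, 0, 3, 0, 3, 0, 2, 0, 3, 0, 2, 2, 1, 2, 1, 2, 1, 2, 1, 3, 1, 2, 1, 3, 1, 2, 1, 3, 1, 2, 1, 3, 1, 4, 0, 2, 0, 3, 0, 2, 0, 3, 0, 2, 0, 3, 0, 2, 0, 3, 0, 3, 0, 3, 0, 3], [0, 2, 0, 3, 0, 2, 0, 3, 0, 2, 0, 2, 0, 2, 0, 3, 0, 2, 0, 2, 0, 2, 0, 2, 0, 2, 0, 2, 0, 3, 0, 3, 0, 2, 0, 2, 0, 3, 0, 3,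 0, 3, 0, 3, 0, 3, 0, 2, 0, 3, 3, 1, 2, 1, 3, 1, 2, 1, 2, 1, 3, 1, 3, 1, 3, 1, 3, 1, 2, 1, 2, 1, 4, 0, 3, 0, 3, 0, 2, 0, 2, 0, 2, 0, 2, 0, 3, 0, 3, 0, 2, 0, 3, 0, 2]])
    (h1 : ev (atm 3 J4N.p) [2, 0] * ev (atm 3 J4N.p) [4] * (ev (atm 3 J4N.p) [2, 0])⁻¹ ∉ wsub 3 J4N.p [[0, 3, 0, 2, 0, 2, 0, 3, 0, 2, 0, 3, 0, 3, 0, 3, 0, 2, 0, 2, 0, 3, 0, 3, 0, 2, 0, 3, 0, 2, 0, 3, 0, 2, 0, 3, 0, 3, 0, 3, 0, 2, 0, 3, 0, 3, 0, 3, 0, 3, 0, 2, 0, 3, 0, 2, 2, 1, 2, 1, 2, 1, 2, 1, 3, 1, 2, 1, 3, 1, 2, 1, 3, 1, 2, 1, 3, 1, 4, 0, 2, 0, 3, 0, 2, 0, 3, 0, 2, 0, 3, 0, 2, 0, 3, 0, 3, 0, 3, 0, 3], [0, 2, 0, 3, 0, 2, 0, 3, 0, 2, 0, 2, 0, 2, 0, 3, 0, 2, 0, 2, 0, 2, 0, 2, 0, 2, 0, 2, 0, 3, 0, 3, 0, 2, 0, 2, 0, 3,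 0, 3, 0, 3, 0, 3, 0, 3, 0, 2, 0, 3, 3, 1, 2, 1, 3, 1, 2, 1, 2, 1, 3, 1, 3, 1, 3, 1, 3, 1, 2, 1, 2, 1, 4, 0, 3, 0, 3, 0, 2, 0, 2, 0, 2, 0, 2, 0, 3, 0, 3, 0, 2, 0, 3, 0, 2]])
    (h2 : ev (atm 3 J4N.p) [2, 0, 3, 0] * ev (atm 3 J4N.p) [4] * (ev (atm 3 J4N.p) [2, 0, 3, 0])⁻¹ ∉ wsub 3 J4N.p [[0, 3, 0, 2, 0, 2, 0, 3, 0, 2, 0, 3, 0, 3, 0, 3, 0, 2, 0, 2, 0, 3, 0, 3, 0, 2, 0, 3, 0, 2, 0, 3, 0, 2, 0, 3, 0, 3, 0, 3, 0, 2, 0, 3, 0, 3, 0, 3, 0, 3, 0, 2, 0, 3, 0, 2, 2, 1, 2, 1, 2, 1, 2, 1, 3, 1, 2, 1, 3, 1, 2, 1, 3, 1, 2, 1, 3, 1, 4, 0, 2, 0, 3, 0, 2, 0, 3, 0, 2, 0, 3, 0, 2, 0, 3, 0, 3, 0, 3, 0, 3], [0, 2, 0, 3, 0, 2, 0, 3, 0, 2, 0, 2, 0, 2, 0, 3, 0, 2, 0, 2, 0, 2, 0, 2, 0, 2, 0, 2, 0, 3, 0, 3,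 0, 2, 0, 2, 0, 3, 0, 3, 0, 3, 0, 3, 0, 3, 0, 2, 0, 3, 3, 1, 2, 1, 3, 1, 2, 1, 2, 1, 3, 1, 3, 1, 3, 1, 3, 1, 2, 1, 2, 1, 4, 0, 3, 0, 3, 0, 2, 0, 2, 0, 2, 0, 2, 0, 3, 0, 3, 0, 2, 0, 3, 0, 2]])
    (h3 : ev (atm 3 J4N.p) [3, 0, 2, 0] * ev (atm 3 J4N.p) [4] * (ev (atm 3 J4N.p) [3, 0, 2, 0])⁻¹ ∉ wsub 3 J4N.p [[0, 3, 0, 2, 0, 2, 0, 3, 0, 2, 0, 3, 0, 3, 0, 3, 0, 2, 0, 2, 0, 3, 0, 3, 0, 2, 0, 3, 0, 2, 0, 3, 0, 2, 0, 3, 0, 3, 0, 3, 0, 2, 0, 3, 0, 3, 0, 3, 0, 3, 0, 2, 0, 3, 0, 2, 2, 1, 2, 1, 2, 1, 2, 1, 3, 1, 2, 1, 3, 1, 2, 1, 3, 1, 2, 1, 3, 1, 4, 0, 2, 0, 3, 0, 2, 0, 3, 0, 2, 0, 3, 0, 2, 0, 3, 0, 3, 0, 3, 0, 3], [0, 2, 0, 3, 0, 2, 0, 3, 0, 2, 0, 2, 0, 2, 0, 3, 0, 2, 0, 2, 0, 2, 0, 2, 0, 2,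 0, 2, 0, 3, 0, 3, 0, 2, 0, 2, 0, 3, 0, 3, 0, 3, 0, 3, 0, 3, 0, 2, 0, 3, 3, 1, 2, 1, 3, 1, 2, 1, 2, 1, 3, 1, 3, 1, 3, 1, 3, 1, 2, 1, 2, 1, 4, 0, 3, 0, 3, 0, 2, 0, 2, 0, 2, 0, 2, 0, 3, 0, 3, 0, 2, 0, 3, 0, 2]])
    (h4 : ev (atm 3 J4N.p) [2, 0, 2, 0, 3, 0, 3, 0] * ev (atm 3 J4N.p) [4] * (ev (atm 3 J4N.p) [2, 0, 2, 0, 3, 0, 3, 0])⁻¹ ∉ wsub 3 J4N.p [[0, 3, 0, 2, 0, 2, 0, 3, 0, 2, 0, 3, 0, 3, 0, 3, 0, 2, 0, 2, 0, 3, 0, 3, 0, 2, 0, 3, 0, 2, 0, 3, 0, 2, 0, 3, 0, 3, 0, 3, 0, 2, 0, 3, 0, 3, 0, 3, 0, 3, 0, 2, 0, 3, 0, 2, 2, 1, 2, 1, 2, 1, 2, 1, 3, 1, 2, 1, 3, 1, 2, 1, 3, 1, 2, 1, 3, 1, 4, 0, 2, 0, 3, 0, 2, 0, 3, 0, 2, 0, 3, 0, 2, 0, 3, 0, 3, 0, 3, 0, 3], [0, 2, 0, 3, 0, 2, 0, 3, 0, 2, 0, 2,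 0, 2, 0, 3, 0, 2, 0, 2, 0, 2, 0, 2, 0, 2, 0, 2, 0, 3, 0, 3, 0, 2, 0, 2, 0, 3, 0, 3, 0, 3, 0, 3, 0, 3, 0, 2, 0, 3, 3, 1, 2, 1, 3, 1, 2, 1, 2, 1, 3, 1, 3, 1, 3, 1, 3, 1, 2, 1, 2, 1, 4, 0, 3, 0, 3, 0, 2, 0, 2, 0, 2, 0, 2, 0, 3, 0, 3, 0, 2, 0, 3, 0, 2]])
    (h5 : ev (atm 3 J4N.p) [0, 3, 0, 2, 0, 2, 0, 2, 0, 3, 0, 2, 0] * ev (atm 3 J4N.p) [4] * (ev (atm 3 J4N.p) [0, 3, 0, 2, 0, 2, 0, 2, 0, 3, 0, 2, 0])⁻¹ ∉ wsub 3 J4N.p [[0, 3, 0, 2, 0, 2, 0, 3, 0, 2, 0, 3, 0, 3, 0, 3, 0, 2, 0, 2, 0, 3, 0, 3, 0, 2, 0, 3, 0, 2, 0, 3, 0, 2, 0, 3, 0, 3, 0, 3, 0, 2, 0, 3, 0, 3, 0, 3, 0, 3, 0, 2, 0, 3, 0, 2, 2, 1, 2, 1, 2, 1, 2, 1, 3, 1, 2, 1, 3, 1, 2, 1, 3, 1, 2, 1, 3, 1, 4, 0, 2, 0, 3, 0, 2, 0, 3, 0, 2,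 0, 3, 0, 2, 0, 3, 0, 3, 0, 3, 0, 3], [0, 2, 0, 3, 0, 2, 0, 3, 0, 2, 0, 2, 0, 2, 0, 3, 0, 2, 0, 2, 0, 2, 0, 2, 0, 2, 0, 2, 0, 3, 0, 3, 0, 2, 0, 2, 0, 3, 0, 3, 0, 3, 0, 3, 0, 3, 0, 2, 0, 3, 3, 1, 2, 1, 3, 1, 2, 1, 2, 1, 3, 1, 3, 1, 3, 1, 3, 1, 2, 1, 2, 1, 4, 0, 3, 0, 3, 0, 2, 0, 2, 0, 2, 0, 2, 0, 3, 0, 3, 0, 2, 0, 3, 0, 2]])
    (h6 : Q (ev (atm 3 J4N.p) [0, 2, 0, 2, 0, 2, 0, 3, 0, 3, 0, 3, 0]))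
    (h7 : Q (ev (atm 3 J4N.p) [3, 0, 2, 0, 2, 0, 3, 0, 3, 0, 3, 0, 3, 0, 3, 0])) :
    ∀ y ∈ wsub 3 J4N.p [[0, 3, 0, 2, 0, 2, 0, 3, 0, 2, 0, 3, 0, 3, 0, 3, 0, 2, 0, 2, 0, 3, 0, 3, 0, 2, 0, 3, 0, 2, 0, 3, 0, 2, 0, 3, 0, 3, 0, 3, 0, 2, 0, 3, 0, 3, 0, 3, 0, 3, 0, 2, 0, 3, 0, 2, 2, 1, 2, 1, 2, 1, 2, 1, 3, 1, 2, 1, 3, 1, 2, 1, 3, 1, 2, 1, 3, 1, 4, 0, 2, 0, 3, 0, 2, 0, 3, 0, 2, 0, 3, 0, 2, 0, 3, 0, 3, 0, 3, 0, 3], [0, 2, 0, 3, 0, 2, 0, 3, 0, 2, 0, 2, 0, 2, 0, 3, 0, 2, 0, 2, 0, 2, 0, 2, 0, 2, 0, 2, 0, 3, 0, 3, 0, 2, 0, 2, 0, 3, 0, 3, 0, 3, 0, 3, 0, 3, 0, 2, 0, 3, 3, 1, 2, 1, 3, 1, 2, 1, 2, 1, 3, 1, 3, 1, 3, 1, 3, 1, 2, 1, 2, 1, 4, 0, 3, 0, 3, 0, 2, 0, 2, 0, 2, 0, 2, 0, 3, 0, 3, 0, 2, 0,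 3, 0, 2]], IsConj (ev (atm 3 J4N.p) [4]) y → ∃ s ∈ wsub 3 J4N.p [[0, 3, 0, 2, 0, 2, 0, 3, 0, 2, 0, 3, 0, 3, 0, 3, 0, 2, 0, 2, 0, 3, 0, 3, 0, 2, 0, 3, 0, 2, 0, 3, 0, 2, 0, 3, 0, 3, 0, 3, 0, 2, 0, 3, 0, 3, 0, 3, 0, 3, 0, 2, 0, 3, 0, 2, 2, 1, 2, 1, 2, 1, 2, 1, 3, 1, 2, 1, 3, 1, 2, 1, 3, 1, 2, 1, 3, 1, 4, 0, 2, 0, 3, 0, 2, 0, 3, 0, 2, 0, 3, 0, 2, 0, 3, 0, 3, 0, 3, 0, 3], [0, 2, 0, 3, 0, 2, 0, 3, 0, 2, 0, 2, 0, 2, 0, 3, 0, 2, 0, 2, 0, 2, 0, 2, 0, 2, 0, 2, 0, 3, 0, 3, 0, 2, 0, 2, 0, 3, 0, 3, 0, 3, 0, 3, 0, 3, 0, 2, 0, 3, 3, 1, 2, 1, 3, 1, 2, 1, 2, 1, 3, 1, 3, 1, 3, 1, 3, 1, 2, 1, 2, 1, 4, 0, 3, 0, 3, 0, 2, 0, 2, 0, 2, 0, 2, 0, 3, 0, 3, 0, 2, 0, 3, 0, 2]], ∃ h, Q h ∧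
      y = s * h * ev (atm 3 J4N.p) [4] * (s * h)⁻¹ :=
  link.classes act (W := W66) (by decide +kernel) hH (X := [([], 0, M67), ([2, 0], 4, M71), ([2, 0, 3, 0], 8, M75), ([3, 0, 2, 0], 9, M79), ([2, 0, 2, 0, 3, 0, 3, 0], 38, M83), ([0, 3, 0, 2, 0, 2, 0, 2, 0, 3, 0, 2, 0], 299, M87), ([0, 2, 0, 2, 0, 2, 0, 3, 0, 3, 0, 3, 0], 199, M91), ([3, 0, 2, 0, 2, 0, 3, 0, 3, 0, 3, 0, 3, 0, 3, 0], 317, M97)])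
    (AllP.cons ⟨by decide, (hU.sends sd70), reach69, Or.inr h0⟩ (AllP.cons ⟨by decide, (hU.sends sd74), reach73, Or.inr h1⟩ (AllP.cons ⟨by decide, (hU.sends sd78), reach77, Or.inr h2⟩ (AllP.cons ⟨by decide, (hU.sends sd82), reach81, Or.inr h3⟩ (AllP.cons ⟨by decide, (hU.sends sd86), reach85, Or.inr h4⟩ (AllP.cons ⟨by decide, (hU.sends sd90), reach89, Or.inr h5⟩ (AllP.cons ⟨by decide, (hU.sends sd94), reach93, Or.inl h6⟩ (AllP.cons ⟨by decide, (hU.sends sd100), reach99, Or.inl h7⟩ (AllP.nil))))))))) (by decide +kernel)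
theorem reach106 : Reach (U.lsub W103) 0 M104 := (Reach.grow hU (Reach.base _ 0) gr105)
theorem reach110 : Reach (U.lsub W103) 2 M108 := (Reach.grow hU (Reach.base _ 2) gr109)
theorem reach114 : Reach (U.lsub W103) 6 M112 := (Reach.grow hU (Reach.base _ 6) gr113)
theorem reach118 : Reach (U.lsub W103) 27 M116 := (Reach.grow hU (Reach.base _ 27) gr117)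
theorem reach122 : Reach (U.lsub W103) 87 M120 := (Reach.grow hU (Reach.base _ 87) gr121)
theorem reach126 : Reach (U.lsub W103) 131 M124 := (Reach.grow hU (Reach.base _ 131) gr125)
theorem reach128 : Reach (U.lsub W103) 153 (Nat.shiftLeft 1 153) := (Reach.base _ 153)
theorem bad131 : ¬ IsConj (ev (atm 3 J4N.p) [4]) (ev (atm 3 J4N.p) [0, 2, 0, 3, 0, 2, 0, 3, 0, 3, 0, 2, 0, 3, 0, 2, 0, 2, 0, 3, 0, 2, 0, 3, 0, 2, 0, 3, 0, 3, 0, 3, 0, 3, 0, 2, 0, 2, 0, 3, 0, 3, 0, 2, 0, 2, 0, 3, 0, 2, 0, 2, 2, 1, 3, 1, 3, 1, 3, 1, 2, 1, 4, 0, 3, 0, 2, 0, 2, 0, 2, 0, 3]) :=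
  link.bad hU hz (by decide +kernel) sd130
theorem cls7 (hH : ∀ x ∈ wsub 3 J4N.p J4N.ZB.HW, x * ev (atm 3 J4N.p) [4] = ev (atm 3 J4N.p) [4] * x)
    {Q : J4N.P → Prop}
    (h0 : ev (atm 3 J4N.p) [] * ev (atm 3 J4N.p) [4] * (ev (atm 3 J4N.p) [])⁻¹ ∉ wsub 3 J4N.p [[0, 2, 0, 3, 0, 3, 0, 2, 0, 2, 0, 3, 0, 3, 0, 3, 0, 3, 0, 2, 0, 3, 0, 3, 0, 3, 0, 2, 0, 3, 0, 3, 0, 3, 0, 3, 0, 2, 0, 3, 0, 3, 0, 3, 0, 3, 0, 3, 0, 2, 2, 1, 4, 2, 1, 2, 1, 2, 1, 4, 0, 3, 0, 3, 0, 3, 0, 3, 0, 3], [2, 0, 2, 0, 3, 0, 2, 0, 2, 0, 2, 0, 2, 0, 3, 0, 2, 0, 3, 0, 2, 0, 2, 0, 2, 0, 3, 0, 2, 0, 3, 0, 2, 0, 3, 0, 3, 0, 2, 0, 2, 0, 3, 0, 3, 0, 2, 0, 3, 3, 1, 3, 1, 3, 1, 3, 1, 3, 1, 2, 1, 2, 1, 4, 0, 3, 0, 3, 0, 2, 0,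 2, 0, 2, 0, 2, 0, 2, 0]])
    (h1 : ev (atm 3 J4N.p) [3, 0] * ev (atm 3 J4N.p) [4] * (ev (atm 3 J4N.p) [3, 0])⁻¹ ∉ wsub 3 J4N.p [[0, 2, 0, 3, 0, 3, 0, 2, 0, 2, 0, 3, 0, 3, 0, 3, 0, 3, 0, 2, 0, 3, 0, 3, 0, 3, 0, 2, 0, 3, 0, 3, 0, 3, 0, 3, 0, 2, 0, 3, 0, 3, 0, 3, 0, 3, 0, 3, 0, 2, 2, 1, 4, 2, 1, 2, 1, 2, 1, 4, 0, 3, 0, 3, 0, 3, 0, 3, 0, 3], [2, 0, 2, 0, 3, 0, 2, 0, 2, 0, 2, 0, 2, 0, 3, 0, 2, 0, 3, 0, 2, 0, 2, 0, 2, 0, 3, 0, 2, 0, 3, 0, 2, 0, 3, 0, 3, 0, 2, 0, 2, 0, 3, 0, 3, 0, 2, 0, 3, 3, 1, 3, 1, 3, 1, 3, 1, 3, 1, 2, 1, 2, 1, 4, 0, 3, 0, 3, 0, 2, 0, 2, 0, 2, 0, 2, 0, 2, 0]])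
    (h2 : ev (atm 3 J4N.p) [0, 2, 0] * ev (atm 3 J4N.p) [4] * (ev (atm 3 J4N.p) [0, 2, 0])⁻¹ ∉ wsub 3 J4N.p [[0, 2, 0, 3, 0, 3, 0, 2, 0, 2, 0, 3, 0, 3, 0, 3, 0, 3, 0, 2, 0, 3, 0, 3, 0, 3, 0, 2, 0, 3, 0, 3, 0, 3, 0, 3, 0, 2, 0, 3, 0, 3, 0, 3, 0, 3, 0, 3, 0, 2, 2, 1, 4, 2, 1, 2, 1, 2, 1, 4, 0, 3, 0, 3, 0, 3, 0, 3, 0, 3], [2, 0, 2, 0, 3, 0, 2, 0, 2, 0, 2, 0, 2, 0, 3, 0, 2, 0, 3, 0, 2, 0, 2, 0, 2, 0, 3, 0, 2, 0, 3, 0, 2, 0, 3, 0, 3, 0, 2, 0, 2, 0, 3, 0, 3, 0, 2, 0, 3, 3, 1, 3, 1, 3, 1, 3, 1, 3, 1, 2, 1, 2, 1, 4, 0, 3, 0, 3, 0, 2, 0, 2, 0, 2, 0, 2, 0, 2, 0]])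
    (h3 : ev (atm 3 J4N.p) [2, 0, 3, 0, 3, 0, 3, 0] * ev (atm 3 J4N.p) [4] * (ev (atm 3 J4N.p) [2, 0, 3, 0, 3, 0, 3, 0])⁻¹ ∉ wsub 3 J4N.p [[0, 2, 0, 3, 0, 3, 0, 2, 0, 2, 0, 3, 0, 3, 0, 3, 0, 3, 0, 2, 0, 3, 0, 3, 0, 3, 0, 2, 0, 3, 0, 3, 0, 3, 0, 3, 0, 2, 0, 3, 0, 3, 0, 3, 0, 3, 0, 3, 0, 2, 2, 1, 4, 2, 1, 2, 1, 2, 1, 4, 0, 3, 0, 3, 0, 3, 0, 3, 0, 3], [2, 0, 2, 0, 3, 0, 2, 0, 2, 0, 2, 0, 2, 0, 3, 0, 2, 0, 3, 0, 2, 0, 2, 0, 2, 0, 3, 0, 2, 0, 3, 0, 2, 0, 3, 0, 3, 0, 2, 0, 2, 0, 3, 0, 3, 0, 2, 0, 3, 3, 1, 3, 1, 3, 1, 3, 1, 3, 1, 2, 1, 2, 1, 4, 0, 3, 0, 3, 0, 2, 0, 2, 0, 2, 0, 2, 0, 2, 0]])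
    (h4 : ev (atm 3 J4N.p) [3, 0, 3, 0, 2, 0, 3, 0, 3, 0, 3, 0] * ev (atm 3 J4N.p) [4] * (ev (atm 3 J4N.p) [3, 0, 3, 0, 2, 0, 3, 0, 3, 0, 3, 0])⁻¹ ∉ wsub 3 J4N.p [[0, 2, 0, 3, 0, 3, 0, 2, 0, 2, 0, 3, 0, 3, 0, 3, 0, 3, 0, 2, 0, 3, 0, 3, 0, 3, 0, 2, 0, 3, 0, 3, 0, 3, 0, 3, 0, 2, 0, 3, 0, 3, 0, 3, 0, 3, 0, 3, 0, 2, 2, 1, 4, 2, 1, 2, 1, 2, 1, 4, 0, 3, 0, 3, 0, 3, 0, 3, 0, 3], [2, 0, 2, 0, 3, 0, 2, 0, 2, 0, 2, 0, 2, 0, 3, 0, 2, 0, 3, 0, 2, 0, 2, 0, 2, 0, 3, 0, 2, 0, 3, 0, 2, 0, 3, 0, 3, 0, 2, 0, 2, 0, 3, 0, 3, 0, 2, 0, 3, 3, 1, 3, 1, 3, 1, 3, 1, 3, 1, 2, 1, 2, 1, 4, 0, 3, 0, 3, 0, 2, 0, 2, 0, 2, 0, 2, 0, 2, 0]])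
    (h5 : ev (atm 3 J4N.p) [2, 0, 2, 0, 2, 0, 2, 0, 3, 0] * ev (atm 3 J4N.p) [4] * (ev (atm 3 J4N.p) [2, 0, 2, 0, 2, 0, 2, 0, 3, 0])⁻¹ ∉ wsub 3 J4N.p [[0, 2, 0, 3, 0, 3, 0, 2, 0, 2, 0, 3, 0, 3, 0, 3, 0, 3, 0, 2, 0, 3, 0, 3, 0, 3, 0, 2, 0, 3, 0, 3, 0, 3, 0, 3, 0, 2, 0, 3, 0, 3, 0, 3, 0, 3, 0, 3, 0, 2, 2, 1, 4, 2, 1, 2, 1, 2, 1, 4, 0, 3, 0, 3, 0, 3, 0, 3, 0, 3], [2, 0, 2, 0, 3, 0, 2, 0, 2, 0, 2, 0, 2, 0, 3, 0, 2, 0, 3, 0, 2, 0, 2, 0, 2, 0, 3, 0, 2, 0, 3, 0, 2, 0, 3, 0, 3, 0, 2, 0, 2, 0, 3, 0, 3, 0, 2, 0, 3, 3, 1, 3, 1, 3, 1, 3, 1, 3, 1, 2, 1, 2, 1, 4, 0, 3, 0, 3, 0, 2, 0, 2, 0, 2, 0, 2, 0, 2, 0]])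
    (h6 : Q (ev (atm 3 J4N.p) [2, 0, 2, 0, 2, 0, 3, 0, 3, 0, 3, 0])) :
    ∀ y ∈ wsub 3 J4N.p [[0, 2, 0, 3, 0, 3, 0, 2, 0, 2, 0, 3, 0, 3, 0, 3, 0, 3, 0, 2, 0, 3, 0, 3, 0, 3, 0, 2, 0, 3, 0, 3, 0, 3, 0, 3, 0, 2, 0, 3, 0, 3, 0, 3, 0, 3, 0, 3, 0, 2, 2, 1, 4, 2, 1, 2, 1, 2, 1, 4, 0, 3, 0, 3, 0, 3, 0, 3, 0, 3], [2, 0, 2, 0, 3, 0, 2, 0, 2, 0, 2, 0, 2, 0, 3, 0, 2, 0, 3, 0, 2, 0, 2, 0, 2, 0, 3, 0, 2, 0, 3, 0, 2, 0, 3, 0, 3, 0, 2, 0, 2, 0, 3, 0, 3, 0, 2, 0, 3, 3, 1, 3, 1, 3, 1, 3, 1, 3, 1, 2, 1, 2, 1, 4, 0, 3, 0, 3, 0, 2, 0, 2, 0, 2, 0, 2, 0, 2, 0]], IsConj (ev (atm 3 J4N.p) [4]) y → ∃ s ∈ wsub 3 J4N.p [[0, 2, 0, 3, 0, 3, 0, 2, 0, 2, 0, 3, 0, 3, 0, 3, 0, 3, 0, 2, 0, 3, 0, 3, 0, 3, 0, 2, 0,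 3, 0, 3, 0, 3, 0, 3, 0, 2, 0, 3, 0, 3, 0, 3, 0, 3, 0, 3, 0, 2, 2, 1, 4, 2, 1, 2, 1, 2, 1, 4, 0, 3, 0, 3, 0, 3, 0, 3, 0, 3], [2, 0, 2, 0, 3, 0, 2, 0, 2, 0, 2, 0, 2, 0, 3, 0, 2, 0, 3, 0, 2, 0, 2, 0, 2, 0, 3, 0, 2, 0, 3, 0, 2, 0, 3, 0, 3, 0, 2, 0, 2, 0, 3, 0, 3, 0, 2, 0, 3, 3, 1, 3, 1, 3, 1, 3, 1, 3, 1, 2, 1, 2, 1, 4, 0, 3, 0, 3, 0, 2, 0, 2, 0, 2, 0, 2, 0, 2, 0]], ∃ h, Q h ∧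
      y = s * h * ev (atm 3 J4N.p) [4] * (s * h)⁻¹ :=
  link.classes act (W := W103) (by decide +kernel) hH (X := [([], 0, M104), ([3, 0], 2, M108), ([0, 2, 0], 6, M112), ([2, 0, 3, 0, 3, 0, 3, 0], 27, M116), ([3, 0, 3, 0, 2, 0, 3, 0, 3, 0, 3, 0], 87, M120), ([2, 0, 2, 0, 2, 0, 2, 0, 3, 0], 131, M124), ([2, 0, 2, 0, 2, 0, 3, 0, 3, 0, 3, 0], 153, (Nat.shiftLeft 1 153))])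
    (AllP.cons ⟨by decide, (hU.sends sd107), reach106, Or.inr h0⟩ (AllP.cons ⟨by decide, (hU.sends sd111), reach110, Or.inr h1⟩ (AllP.cons ⟨by decide, (hU.sends sd115), reach114, Or.inr h2⟩ (AllP.cons ⟨by decide, (hU.sends sd119), reach118, Or.inr h3⟩ (AllP.cons ⟨by decide, (hU.sends sd123), reach122, Or.inr h4⟩ (AllP.cons ⟨by decide, (hU.sends sd127), reach126, Or.inr h5⟩ (AllP.cons ⟨by decide, (hU.sends sd129), reach128, Or.inl h6⟩ (AllP.nil)))))))) (by decide +kernel)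
theorem reach135 : Reach (U.lsub W132) 0 M133 := (Reach.grow hU (Reach.base _ 0) gr134)
theorem reach139 : Reach (U.lsub W132) 2 M137 := (Reach.grow hU (Reach.base _ 2) gr138)
theorem reach143 : Reach (U.lsub W132) 9 M141 := (Reach.grow hU (Reach.base _ 9) gr142)
theorem reach147 : Reach (U.lsub W132) 27 M145 := (Reach.grow hU (Reach.base _ 27) gr146)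
theorem reach151 : Reach (U.lsub W132) 73 M149 := (Reach.grow hU (Reach.base _ 73) gr150)
theorem reach155 : Reach (U.lsub W132) 87 M153 := (Reach.grow hU (Reach.base _ 87) gr154)
theorem reach159 : Reach (U.lsub W132) 131 M157 := (Reach.grow hU (Reach.base _ 131) gr158)
theorem reach161 : Reach (U.lsub W132) 213 (Nat.shiftLeft 1 213) := (Reach.base _ 213)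
theorem cls10 (hH : ∀ x ∈ wsub 3 J4N.p J4N.ZB.HW, x * ev (atm 3 J4N.p) [4] = ev (atm 3 J4N.p) [4] * x)
    {Q : J4N.P → Prop}
    (h0 : ev (atm 3 J4N.p) [] * ev (atm 3 J4N.p) [4] * (ev (atm 3 J4N.p) [])⁻¹ ∉ wsub 3 J4N.p [[0, 2, 0, 2, 0, 2, 0, 3, 0, 2, 0, 3, 0, 2, 0, 2, 0, 3, 0, 3, 0, 3, 0, 2, 0, 2, 0, 3, 0, 3, 0, 3, 0, 3, 0, 3, 0, 3, 0, 2, 0, 2, 0, 2, 0, 2, 1, 2, 1, 2, 1, 3, 1, 2, 1, 3, 1, 2, 1, 2, 1, 3, 1, 2, 1, 3, 1, 4, 0, 2, 0, 3, 0, 2, 0, 3, 0, 3, 0, 2, 0, 3, 0, 2, 0, 3, 0, 3, 0, 3], [3, 0, 2, 0, 3, 0, 2, 0, 3, 0, 2, 0, 3, 0, 3, 0, 3, 0, 3, 0, 3, 0, 2, 0, 3, 0, 2, 0, 3, 0, 3, 0, 3, 0, 3, 0, 3, 0, 2, 0, 2, 0, 2, 0, 3, 0, 2, 0, 3, 0, 3, 0, 2, 0, 3, 1, 2, 1, 3, 1, 2, 1, 2, 1, 3,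 1, 3, 1, 4, 0, 2, 0, 2, 0, 3, 0, 3, 0, 2, 0, 3, 0, 2]])
    (h1 : ev (atm 3 J4N.p) [3, 0] * ev (atm 3 J4N.p) [4] * (ev (atm 3 J4N.p) [3, 0])⁻¹ ∉ wsub 3 J4N.p [[0, 2, 0, 2, 0, 2, 0, 3, 0, 2, 0, 3, 0, 2, 0, 2, 0, 3, 0, 3, 0, 3, 0, 2, 0, 2, 0, 3, 0, 3, 0, 3, 0, 3, 0, 3, 0, 3, 0, 2, 0, 2, 0, 2, 0, 2, 1, 2, 1, 2, 1, 3, 1, 2, 1, 3, 1, 2, 1, 2, 1, 3, 1, 2, 1, 3, 1, 4, 0, 2, 0, 3, 0, 2, 0, 3, 0, 3, 0, 2, 0, 3, 0, 2, 0, 3, 0, 3, 0, 3], [3, 0, 2, 0, 3, 0, 2, 0, 3, 0, 2, 0, 3, 0, 3, 0, 3, 0, 3, 0, 3, 0, 2, 0, 3, 0, 2, 0, 3, 0, 3, 0, 3, 0, 3, 0, 3, 0, 2, 0, 2, 0, 2, 0, 3, 0, 2, 0, 3, 0, 3, 0, 2, 0, 3, 1, 2, 1, 3, 1, 2, 1, 2, 1, 3, 1, 3, 1, 4, 0, 2, 0, 2, 0, 3, 0, 3, 0, 2, 0, 3, 0, 2]])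
    (h2 : ev (atm 3 J4N.p) [3, 0, 2, 0] * ev (atm 3 J4N.p) [4] * (ev (atm 3 J4N.p) [3, 0, 2, 0])⁻¹ ∉ wsub 3 J4N.p [[0, 2, 0, 2, 0, 2, 0, 3, 0, 2, 0, 3, 0, 2, 0, 2, 0, 3, 0, 3, 0, 3, 0, 2, 0, 2, 0, 3, 0, 3, 0, 3, 0, 3, 0, 3, 0, 3, 0, 2, 0, 2, 0, 2, 0, 2, 1, 2, 1, 2, 1, 3, 1, 2, 1, 3, 1, 2, 1, 2, 1, 3, 1, 2, 1, 3, 1, 4, 0, 2, 0, 3, 0, 2, 0, 3, 0, 3, 0, 2, 0, 3, 0, 2, 0, 3, 0, 3, 0, 3], [3, 0, 2, 0, 3, 0, 2, 0, 3, 0, 2, 0, 3, 0, 3, 0, 3, 0, 3, 0, 3, 0, 2, 0, 3, 0, 2, 0, 3, 0, 3, 0, 3, 0, 3, 0, 3, 0, 2, 0, 2, 0, 2, 0, 3, 0, 2, 0, 3, 0, 3, 0, 2, 0, 3, 1, 2, 1, 3, 1, 2, 1, 2, 1, 3, 1, 3, 1, 4, 0, 2, 0, 2, 0, 3, 0, 3, 0, 2, 0, 3, 0, 2]])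
    (h3 : ev (atm 3 J4N.p) [2, 0, 3, 0, 3, 0, 3, 0] * ev (atm 3 J4N.p) [4] * (ev (atm 3 J4N.p) [2, 0, 3, 0, 3, 0, 3, 0])⁻¹ ∉ wsub 3 J4N.p [[0, 2, 0, 2, 0, 2, 0, 3, 0, 2, 0, 3, 0, 2, 0, 2, 0, 3, 0, 3, 0, 3, 0, 2, 0, 2, 0, 3, 0, 3, 0, 3, 0, 3, 0, 3, 0, 3, 0, 2, 0, 2, 0, 2, 0, 2, 1, 2, 1, 2, 1, 3, 1, 2, 1, 3, 1, 2, 1, 2, 1, 3, 1, 2, 1, 3, 1, 4, 0, 2, 0, 3, 0, 2, 0, 3, 0, 3, 0, 2, 0, 3, 0, 2, 0, 3, 0, 3, 0, 3], [3, 0, 2, 0, 3, 0, 2, 0, 3, 0, 2, 0, 3, 0, 3, 0, 3, 0, 3, 0, 3, 0, 2, 0, 3, 0, 2, 0, 3, 0, 3, 0, 3, 0, 3, 0, 3, 0, 2, 0, 2, 0, 2, 0, 3, 0, 2, 0, 3, 0, 3, 0, 2, 0, 3, 1, 2, 1, 3, 1, 2, 1, 2, 1, 3, 1, 3, 1, 4, 0, 2, 0, 2, 0, 3, 0, 3, 0, 2, 0, 3, 0, 2]])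
    (h4 : ev (atm 3 J4N.p) [3, 0, 3, 0, 2, 0, 2, 0, 3, 0] * ev (atm 3 J4N.p) [4] * (ev (atm 3 J4N.p) [3, 0, 3, 0, 2, 0, 2, 0, 3, 0])⁻¹ ∉ wsub 3 J4N.p [[0, 2, 0, 2, 0, 2, 0, 3, 0, 2, 0, 3, 0, 2, 0, 2, 0, 3, 0, 3, 0, 3, 0, 2, 0, 2, 0, 3, 0, 3, 0, 3, 0, 3, 0, 3, 0, 3, 0, 2, 0, 2, 0, 2, 0, 2, 1, 2, 1, 2, 1, 3, 1, 2, 1, 3, 1, 2, 1, 2, 1, 3, 1, 2, 1, 3, 1, 4, 0, 2, 0, 3, 0, 2, 0, 3, 0, 3, 0, 2, 0, 3, 0, 2, 0, 3, 0, 3, 0, 3], [3, 0, 2, 0, 3, 0, 2, 0, 3, 0, 2, 0, 3, 0, 3, 0, 3, 0, 3, 0, 3, 0, 2, 0, 3, 0, 2, 0, 3, 0, 3, 0, 3, 0, 3, 0, 3, 0, 2, 0, 2, 0, 2, 0, 3, 0, 2, 0, 3, 0, 3, 0, 2, 0, 3, 1, 2, 1, 3, 1, 2, 1, 2, 1, 3, 1, 3, 1, 4, 0, 2, 0, 2, 0, 3, 0, 3, 0, 2, 0, 3, 0, 2]])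
    (h5 : ev (atm 3 J4N.p) [3, 0, 3, 0, 2, 0, 3, 0, 3, 0, 3, 0] * ev (atm 3 J4N.p) [4] * (ev (atm 3 J4N.p) [3, 0, 3, 0, 2, 0, 3, 0, 3, 0, 3, 0])⁻¹ ∉ wsub 3 J4N.p [[0, 2, 0, 2, 0, 2, 0, 3, 0, 2, 0, 3, 0, 2, 0, 2, 0, 3, 0, 3, 0, 3, 0, 2, 0, 2, 0, 3, 0, 3, 0, 3, 0, 3, 0, 3, 0, 3, 0, 2, 0, 2, 0, 2, 0, 2, 1, 2, 1, 2, 1, 3, 1, 2, 1, 3, 1, 2, 1, 2, 1, 3, 1, 2, 1, 3, 1, 4, 0, 2, 0, 3, 0, 2, 0, 3, 0, 3, 0, 2, 0, 3, 0, 2, 0, 3, 0, 3, 0, 3], [3, 0, 2, 0, 3, 0, 2, 0, 3, 0, 2, 0, 3, 0, 3, 0, 3, 0, 3, 0, 3, 0, 2, 0, 3, 0, 2, 0, 3, 0, 3, 0, 3, 0, 3, 0, 3, 0, 2, 0, 2, 0, 2, 0, 3, 0, 2, 0, 3, 0, 3, 0, 2, 0, 3, 1, 2, 1, 3, 1, 2, 1, 2, 1, 3, 1, 3, 1, 4, 0, 2, 0, 2, 0, 3, 0, 3, 0, 2, 0, 3, 0, 2]])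
    (h6 : ev (atm 3 J4N.p) [2, 0, 2, 0, 2, 0, 2, 0, 3, 0] * ev (atm 3 J4N.p) [4] * (ev (atm 3 J4N.p) [2, 0, 2, 0, 2, 0, 2, 0, 3, 0])⁻¹ ∉ wsub 3 J4N.p [[0, 2, 0, 2, 0, 2, 0, 3, 0, 2, 0, 3, 0, 2, 0, 2, 0, 3, 0, 3, 0, 3, 0, 2, 0, 2, 0, 3, 0, 3, 0, 3, 0, 3, 0, 3, 0, 3, 0, 2, 0, 2, 0, 2, 0, 2, 1, 2, 1, 2, 1, 3, 1, 2, 1, 3, 1, 2, 1, 2, 1, 3, 1, 2, 1, 3, 1, 4, 0, 2, 0, 3, 0, 2, 0, 3, 0, 3, 0, 2, 0, 3, 0, 2, 0, 3, 0, 3, 0, 3], [3, 0, 2, 0, 3, 0, 2, 0, 3, 0, 2, 0, 3, 0, 3, 0, 3, 0, 3, 0, 3, 0, 2, 0, 3, 0, 2, 0, 3, 0, 3, 0, 3, 0, 3, 0, 3, 0, 2, 0, 2, 0, 2, 0, 3, 0, 2, 0, 3, 0, 3, 0, 2, 0, 3, 1, 2, 1, 3, 1, 2, 1, 2, 1, 3, 1, 3, 1, 4, 0, 2, 0, 2, 0, 3, 0, 3, 0, 2, 0, 3, 0, 2]])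
    (h7 : ev (atm 3 J4N.p) [3, 0, 3, 0, 3, 0, 2, 0, 3, 0, 2, 0, 3, 0] * ev (atm 3 J4N.p) [4] * (ev (atm 3 J4N.p) [3, 0, 3, 0, 3, 0, 2, 0, 3, 0, 2, 0, 3, 0])⁻¹ ∉ wsub 3 J4N.p [[0, 2, 0, 2, 0, 2, 0, 3, 0, 2, 0, 3, 0, 2, 0, 2, 0, 3, 0, 3, 0, 3, 0, 2, 0, 2, 0, 3, 0, 3, 0, 3, 0, 3, 0, 3, 0, 3, 0, 2, 0, 2, 0, 2, 0, 2, 1, 2, 1, 2, 1, 3, 1, 2, 1, 3, 1, 2, 1, 2, 1, 3, 1, 2, 1, 3, 1, 4, 0, 2, 0, 3, 0, 2, 0, 3, 0, 3, 0, 2, 0, 3, 0, 2, 0, 3, 0, 3, 0, 3], [3, 0, 2, 0, 3, 0, 2, 0, 3, 0, 2, 0, 3, 0, 3, 0, 3, 0, 3, 0, 3, 0, 2, 0, 3, 0, 2, 0, 3, 0, 3, 0, 3, 0, 3, 0, 3, 0, 2, 0, 2, 0, 2, 0, 3, 0, 2, 0, 3, 0, 3, 0, 2, 0, 3, 1, 2, 1, 3, 1, 2, 1, 2, 1, 3, 1, 3, 1, 4, 0, 2, 0, 2, 0, 3, 0, 3, 0, 2, 0,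 3, 0, 2]]) :
    ∀ y ∈ wsub 3 J4N.p [[0, 2, 0, 2, 0, 2, 0, 3, 0, 2, 0, 3, 0, 2, 0, 2, 0, 3, 0, 3, 0, 3, 0, 2, 0, 2, 0, 3, 0, 3, 0, 3, 0, 3, 0, 3, 0, 3, 0, 2, 0, 2, 0, 2, 0, 2, 1, 2, 1, 2, 1, 3, 1, 2, 1, 3, 1, 2, 1, 2, 1, 3, 1, 2, 1, 3, 1, 4, 0, 2, 0, 3, 0, 2, 0, 3, 0, 3, 0, 2, 0, 3, 0, 2, 0, 3, 0, 3, 0, 3], [3, 0, 2, 0, 3, 0, 2, 0, 3, 0, 2, 0, 3, 0, 3, 0, 3, 0, 3, 0, 3, 0, 2, 0, 3, 0, 2, 0, 3, 0, 3, 0, 3, 0, 3, 0, 3, 0, 2, 0, 2, 0, 2, 0, 3, 0, 2, 0, 3, 0, 3, 0, 2, 0, 3, 1, 2, 1, 3, 1, 2, 1, 2, 1, 3, 1, 3, 1, 4, 0, 2, 0, 2, 0, 3, 0, 3, 0, 2, 0, 3, 0, 2]], IsConj (ev (atm 3 J4N.p) [4]) y → ∃ s ∈ wsub 3 J4N.p [[0, 2, 0, 2, 0, 2, 0, 3, 0, 2, 0, 3, 0, 2, 0, 2, 0, 3, 0, 3, 0, 3, 0, 2,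 0, 2, 0, 3, 0, 3, 0, 3, 0, 3, 0, 3, 0, 3, 0, 2, 0, 2, 0, 2, 0, 2, 1, 2, 1, 2, 1, 3, 1, 2, 1, 3, 1, 2, 1, 2, 1, 3, 1, 2, 1, 3, 1, 4, 0, 2, 0, 3, 0, 2, 0, 3, 0, 3, 0, 2, 0, 3, 0, 2, 0, 3, 0, 3, 0, 3], [3, 0, 2, 0, 3, 0, 2, 0, 3, 0, 2, 0, 3, 0, 3, 0, 3, 0, 3, 0, 3, 0, 2, 0, 3, 0, 2, 0, 3, 0, 3, 0, 3, 0, 3, 0, 3, 0, 2, 0, 2, 0, 2, 0, 3, 0, 2, 0, 3, 0, 3, 0, 2, 0, 3, 1, 2, 1, 3, 1, 2, 1, 2, 1, 3, 1, 3, 1, 4, 0, 2, 0, 2, 0, 3, 0, 3, 0, 2, 0, 3, 0, 2]], ∃ h, Q h ∧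
      y = s * h * ev (atm 3 J4N.p) [4] * (s * h)⁻¹ :=
  link.classes act (W := W132) (by decide +kernel) hH (X := [([], 0, M133), ([3, 0], 2, M137), ([3, 0, 2, 0], 9, M141), ([2, 0, 3, 0, 3, 0, 3, 0], 27, M145), ([3, 0, 3, 0, 2, 0, 2, 0, 3, 0], 73, M149), ([3, 0, 3, 0, 2, 0, 3, 0, 3, 0, 3, 0], 87, M153), ([2, 0, 2, 0, 2, 0, 2, 0, 3, 0], 131, M157), ([3, 0, 3, 0, 3, 0, 2, 0, 3, 0, 2, 0, 3, 0], 213, (Nat.shiftLeft 1 213))])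
    (AllP.cons ⟨by decide, (hU.sends sd136), reach135, Or.inr h0⟩ (AllP.cons ⟨by decide, (hU.sends sd140), reach139, Or.inr h1⟩ (AllP.cons ⟨by decide, (hU.sends sd144), reach143, Or.inr h2⟩ (AllP.cons ⟨by decide, (hU.sends sd148), reach147, Or.inr h3⟩ (AllP.cons ⟨by decide, (hU.sends sd152), reach151, Or.inr h4⟩ (AllP.cons ⟨by decide, (hU.sends sd156), reach155, Or.inr h5⟩ (AllP.cons ⟨by decide, (hU.sends sd160), reach159, Or.inr h6⟩ (AllP.cons ⟨by decide, (hU.sends sd162), reach161, Or.inr h7⟩ (AllP.nil))))))))) (by decide +kernel)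
theorem reach166 : Reach (U.lsub W163) 0 M164 := (Reach.grow hU (Reach.base _ 0) gr165)
theorem reach170 : Reach (U.lsub W163) 2 M168 := (Reach.grow hU (Reach.base _ 2) gr169)
theorem reach174 : Reach (U.lsub W163) 3 M172 := (Reach.grow hU (Reach.base _ 3) gr173)
theorem reach178 : Reach (U.lsub W163) 6 M176 := (Reach.grow hU (Reach.base _ 6) gr177)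
theorem cls12 (hH : ∀ x ∈ wsub 3 J4N.p J4N.ZB.HW, x * ev (atm 3 J4N.p) [4] = ev (atm 3 J4N.p) [4] * x)
    {Q : J4N.P → Prop}
    (h0 : ev (atm 3 J4N.p) [] * ev (atm 3 J4N.p) [4] * (ev (atm 3 J4N.p) [])⁻¹ ∉ wsub 3 J4N.p [[0, 2, 0, 3, 0, 3, 0, 2, 0, 2, 0, 2, 0, 2, 0, 3, 0, 2, 0, 2, 0, 3, 0, 3, 0, 2, 0, 2, 0, 2, 0, 2, 0, 3, 0, 2, 0, 3, 0, 2, 0, 3, 0, 2, 2, 1, 3, 1, 2, 1, 3, 1, 2, 1, 3, 1, 3, 1, 2, 1, 2, 1, 4, 0, 3, 0, 3, 0, 2, 0, 2, 0, 3, 0, 2, 0, 3, 0, 2, 0, 3, 0, 2], [3, 0, 3, 0, 3, 0, 2, 0, 2, 0, 3, 0, 3, 0, 2, 0, 2, 0, 2, 0, 2, 0, 2, 0, 2, 0, 2, 0, 2, 0, 2, 0, 3, 0, 2, 0, 3, 0, 3, 0, 3, 0, 3, 0, 3, 0, 2, 2, 1, 2, 1, 4, 0, 3, 0, 3, 1, 2, 1, 3, 1, 4, 0, 2, 0, 3, 0]])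
    (h1 : ev (atm 3 J4N.p) [3, 0] * ev (atm 3 J4N.p) [4] * (ev (atm 3 J4N.p) [3, 0])⁻¹ ∉ wsub 3 J4N.p [[0, 2, 0, 3, 0, 3, 0, 2, 0, 2, 0, 2, 0, 2, 0, 3, 0, 2, 0, 2, 0, 3, 0, 3, 0, 2, 0, 2, 0, 2, 0, 2, 0, 3, 0, 2, 0, 3, 0, 2, 0, 3, 0, 2, 2, 1, 3, 1, 2, 1, 3, 1, 2, 1, 3, 1, 3, 1, 2, 1, 2, 1, 4, 0, 3, 0, 3, 0, 2, 0, 2, 0, 3, 0, 2, 0, 3, 0, 2, 0, 3, 0, 2], [3, 0, 3, 0, 3, 0, 2, 0, 2, 0, 3, 0, 3, 0, 2, 0, 2, 0, 2, 0, 2, 0, 2, 0, 2, 0, 2, 0, 2, 0, 2, 0, 3, 0, 2, 0, 3, 0, 3, 0, 3, 0, 3, 0, 3, 0, 2, 2, 1, 2, 1, 4, 0, 3, 0, 3, 1, 2, 1, 3, 1, 4, 0, 2, 0, 3, 0]])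
    (h2 : ev (atm 3 J4N.p) [0, 3, 0] * ev (atm 3 J4N.p) [4] * (ev (atm 3 J4N.p) [0, 3, 0])⁻¹ ∉ wsub 3 J4N.p [[0, 2, 0, 3, 0, 3, 0, 2, 0, 2, 0, 2, 0, 2, 0, 3, 0, 2, 0, 2, 0, 3, 0, 3, 0, 2, 0, 2, 0, 2, 0, 2, 0, 3, 0, 2, 0, 3, 0, 2, 0, 3, 0, 2, 2, 1, 3, 1, 2, 1, 3, 1, 2, 1, 3, 1, 3, 1, 2, 1, 2, 1, 4, 0, 3, 0, 3, 0, 2, 0, 2, 0, 3, 0, 2, 0, 3, 0, 2, 0, 3, 0, 2], [3, 0, 3, 0, 3, 0, 2, 0, 2, 0, 3, 0, 3, 0, 2, 0, 2, 0, 2, 0, 2, 0, 2, 0, 2, 0, 2, 0, 2, 0, 2, 0, 3, 0, 2, 0, 3, 0, 3, 0, 3, 0, 3, 0, 3, 0, 2, 2, 1, 2, 1, 4, 0, 3, 0, 3, 1, 2, 1, 3, 1, 4, 0, 2, 0, 3, 0]])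
    (h3 : ev (atm 3 J4N.p) [0, 2, 0] * ev (atm 3 J4N.p) [4] * (ev (atm 3 J4N.p) [0, 2, 0])⁻¹ ∉ wsub 3 J4N.p [[0, 2, 0, 3, 0, 3, 0, 2, 0, 2, 0, 2, 0, 2, 0, 3, 0, 2, 0, 2, 0, 3, 0, 3, 0, 2, 0, 2, 0, 2, 0, 2, 0, 3, 0, 2, 0, 3, 0, 2, 0, 3, 0, 2, 2, 1, 3, 1, 2, 1, 3, 1, 2, 1, 3, 1, 3, 1, 2, 1, 2, 1, 4, 0, 3, 0, 3, 0, 2, 0, 2, 0, 3, 0, 2, 0, 3, 0, 2, 0, 3, 0, 2], [3, 0, 3, 0, 3, 0, 2, 0, 2, 0, 3, 0, 3, 0, 2, 0, 2, 0, 2, 0, 2, 0, 2, 0, 2, 0, 2, 0, 2, 0, 2, 0, 3, 0, 2, 0, 3, 0, 3, 0, 3, 0, 3, 0, 3, 0, 2, 2, 1, 2, 1, 4, 0, 3, 0, 3, 1, 2, 1, 3, 1, 4, 0, 2, 0, 3, 0]]) :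
    ∀ y ∈ wsub 3 J4N.p [[0, 2, 0, 3, 0, 3, 0, 2, 0, 2, 0, 2, 0, 2, 0, 3, 0, 2, 0, 2, 0, 3, 0, 3, 0, 2, 0, 2, 0, 2, 0, 2, 0, 3, 0, 2, 0, 3, 0, 2, 0, 3, 0, 2, 2, 1, 3, 1, 2, 1, 3, 1, 2, 1, 3, 1, 3, 1, 2, 1, 2, 1, 4, 0, 3, 0, 3, 0, 2, 0, 2, 0, 3, 0, 2, 0, 3, 0, 2, 0, 3, 0, 2], [3, 0, 3, 0, 3, 0, 2, 0, 2, 0, 3, 0, 3, 0, 2, 0, 2, 0, 2, 0, 2, 0, 2, 0, 2, 0, 2, 0, 2, 0, 2, 0, 3, 0, 2, 0, 3, 0, 3, 0, 3, 0, 3, 0, 3, 0, 2, 2, 1, 2, 1, 4, 0, 3, 0, 3, 1, 2, 1, 3, 1, 4, 0, 2, 0, 3, 0]], IsConj (ev (atm 3 J4N.p) [4]) y → ∃ s ∈ wsub 3 J4N.p [[0, 2, 0, 3, 0, 3, 0, 2, 0, 2, 0, 2, 0, 2, 0, 3, 0, 2, 0, 2, 0, 3, 0, 3, 0, 2, 0, 2, 0, 2, 0, 2, 0, 3, 0, 2, 0, 3, 0, 2, 0, 3, 0, 2, 2, 1, 3, 1, 2, 1, 3, 1,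 2, 1, 3, 1, 3, 1, 2, 1, 2, 1, 4, 0, 3, 0, 3, 0, 2, 0, 2, 0, 3, 0, 2, 0, 3, 0, 2, 0, 3, 0, 2], [3, 0, 3, 0, 3, 0, 2, 0, 2, 0, 3, 0, 3, 0, 2, 0, 2, 0, 2, 0, 2, 0, 2, 0, 2, 0, 2, 0, 2, 0, 2, 0, 3, 0, 2, 0, 3, 0, 3, 0, 3, 0, 3, 0, 3, 0, 2, 2, 1, 2, 1, 4, 0, 3, 0, 3, 1, 2, 1, 3, 1, 4, 0, 2, 0, 3, 0]], ∃ h, Q h ∧
      y = s * h * ev (atm 3 J4N.p) [4] * (s * h)⁻¹ :=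
  link.classes act (W := W163) (by decide +kernel) hH (X := [([], 0, M164), ([3, 0], 2, M168), ([0, 3, 0], 3, M172), ([0, 2, 0], 6, M176)])
    (AllP.cons ⟨by decide, (hU.sends sd167), reach166, Or.inr h0⟩ (AllP.cons ⟨by decide, (hU.sends sd171), reach170, Or.inr h1⟩ (AllP.cons ⟨by decide, (hU.sends sd175), reach174, Or.inr h2⟩ (AllP.cons ⟨by decide, (hU.sends sd179), reach178, Or.inr h3⟩ (AllP.nil))))) (by decide +kernel)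

end Cfsg.Agent.Spor.J4T.Z
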